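import Groth.Agent.H28.ExcCharts
import Groth.Agent.LefPenLib.Hyp
import Groth.Agent.CurveCohLib.SectionEqns
import Groth.Agent.ProjUPX.TwistFrame
import Groth.Agent.H23.PnChart

/-!
The ideal of a hypersurface of degree `d` is `O(-d)`.
-/

universe u

set_option autoImplicit false
set_option linter.style.haveILetI false
set_option linter.unusedSectionVars false
set_option backward.isDefEq.respectTransparency false
set_option backward.isDefEq.respectTransparency.types false
set_option maxHeartbeats 1000000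

open CategoryTheory CategoryTheory.Limits AlgebraicGeometry TopologicalSpace Opposite

noncomputable section

namespace Groth.Agent.PlaneCurveCoh

variable {r : ℕ} {k : Type u} [Field k] {d : ℕ}

local notation "Pgr" => CohB1.polyGrading r k

/-- The frame `X i ^ (-d)` of `O(-d)` on a chart. -/
def twFrame (d : ℕ) (i : Fin (r + 1)) : Γ(Twist.twistProjSpace r k (-(d : ℤ)), LefPen.chart r k i) :=
  PnCoh.twPow (LefPen.X_mem r k i) (-(d : ℤ)) (U := LefPen.chart r k i) (fun x => x.2)

theorem isFrame_twFrame (d : ℕ) (i : Fin (r + 1)) : InvX.IsFrame (twFrame (k := k) d i) := by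
  intro V hV
  have hU : PnCoh.NonVan (𝒜 := Pgr) (MvPolynomial.X i) V := fun x => hV x.2
  have h : (fun c : Γ(CohB1.ProjSpace r k, V) => c • AModX.res _ hV (twFrame (k := k) d i)) =
      fun c => (show Γ(Twist.twistProjSpace r k (-(d : ℤ)), V) from
        PnCoh.trivMap (LefPen.X_mem r k i) (-(d : ℤ)) hU c) := by
    funext c
    rfl
  rw [h]
  exact PnCoh.trivMap_bijective (LefPen.X_mem r k i) (-(d : ℤ)) hU

theorem dehom_apply (G : LefPen.Form r k d) (i : Fin (r + 1)) (x : LefPen.chart r k i) :
    ((LefPen.dehom G i).1 x).val =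
      (Localization.mk G.1 ⟨MvPolynomial.X i ^ d, PnCoh.pow_notMem x.2 d⟩ : Twist.Loc Pgr x.1) := by
  rw [LefPen.dehom]
  erw [ProjectiveSpectrum.Proj.awayToSection_apply]
  rw [HomogeneousLocalization.Away.val_mk, Localization.mk_eq_mk' (M := Submonoid.powers _), IsLocalization.map_mk',
    ← Localization.mk_eq_mk']
  rfl

theorem dehom_ne_zero (G : LefPen.Form r k d) (hG : G ≠ 0) (i : Fin (r + 1)) : LefPen.dehom G i ≠ 0 := by
  intro h
  haveI : IsIso (Proj.awayToSection Pgr (MvPolynomial.X i)) :=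
    inferInstanceAs (IsIso (Proj.basicOpenIsoAway Pgr (MvPolynomial.X i) (LefPen.X_mem r k i) Nat.one_pos).hom)
  have h1 := (ConcreteCategory.bijective_of_isIso (Proj.awayToSection Pgr (MvPolynomial.X i))).1
    (h.trans (map_zero _).symm)
  have h2 := congrArg HomogeneousLocalization.val h1
  rw [HomogeneousLocalization.Away.val_mk, HomogeneousLocalization.val_zero, Localization.mk_eq_mk' (M := Submonoid.powers _),
    IsLocalization.mk'_eq_zero_iff] at h2
  obtain ⟨⟨_, m, rfl⟩, hm⟩ := h2
  rcases mul_eq_zero.1 hm with h3 | h3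
  · exact pow_ne_zero m (MvPolynomial.X_ne_zero i) h3
  · exact hG (Subtype.ext h3)

/-- The ideal of the hypersurface of a nonzero form of degree `d` is `O(-d)`. -/
theorem idealMod_hyp_iso (G : LefPen.Form r k d) (hG : G ≠ 0) :
    Nonempty (ClSub.idealMod (LefPen.hypIdeal G) ≅ Twist.twistProjSpace r k (-(d : ℤ))) := by
  haveI := H23.PnChart.isIntegral_projSpace r k
  have hne : ∀ i : Fin (r + 1), Nonempty (LefPen.chart r k i : (CohB1.ProjSpace r k).Opens) := fun i => by
    by_contra h
    rw [not_nonempty_iff] at h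
    have hb : LefPen.chart r k i = ⊥ := eq_bot_iff.2 fun x hx => (h.false ⟨x, hx⟩).elim
    refine dehom_ne_zero G hG i ?_
    haveI : Subsingleton Γ(CohB1.ProjSpace r k, LefPen.chart r k i) := by rw [hb]; infer_instance
    exact Subsingleton.elim _ _
  choose c hc using fun i : Fin (r + 1) => OmegaLib.exists_of_mem (LefPen.hypIdeal G) (LefPenLib.chartAff i)
    (LefPen.dehom G i) (by rw [LefPenLib.hypIdeal_chart]; exact Ideal.mem_span_singleton_self _)
  have hfr : ∀ i, InvX.IsFrame (c i) := fun i => by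
    haveI := hne i
    haveI : IsDomain Γ(CohB1.ProjSpace r k, (LefPenLib.chartAff i).1) :=
      inferInstanceAs (IsDomain Γ(CohB1.ProjSpace r k, LefPen.chart r k i))
    exact H28.ExcCharts.isFrame_of_gen (LefPen.hypIdeal G) (LefPenLib.chartAff i).2
      (mem_nonZeroDivisors_of_ne_zero (dehom_ne_zero G hG i)) (LefPenLib.hypIdeal_chart G i) (c i) (hc i)
  refine ((CurveCohLib.Polar.nonempty_iso_of_frames (ι := ULift.{u} (Fin (r + 1))) (fun i => LefPen.chart r k i.down)
    (fun x => by
      obtain ⟨i, hi⟩ := Opens.mem_iSup.1 ((LefPenLib.iSup_chart (r := r) (k := k)).ge (Set.mem_univ x))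
      exact ⟨⟨i⟩, hi⟩)
    (fun i => twFrame d i.down) (fun i => c i.down) (fun i => isFrame_twFrame d i.down) (fun i => hfr i.down)
    fun a b W ha hb g hg => ?_).map Iso.symm)
  refine OmegaLib.idealSect_injective _ W ?_
  erw [OmegaLib.idealSect_smul, OmegaLib.idealSect_map _ ha (c a.down), OmegaLib.idealSect_map _ hb (c b.down),
    hc a.down, hc b.down]
  refine Subtype.ext (funext fun x => HomogeneousLocalization.val_injective _ ?_)
  have h1 : (Localization.mk 1 ⟨MvPolynomial.X b.down ^ d, PnCoh.pow_notMem (hb x.2) d⟩ : Twist.Loc Pgr x.1) =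
      (g.1 x).val * Localization.mk 1 ⟨MvPolynomial.X a.down ^ d, PnCoh.pow_notMem (ha x.2) d⟩ := by
    have h0 := congrArg (fun f : Γ(Twist.twistProjSpace r k (-(d : ℤ)), W) =>
      ((show Twist.sectN (𝒜 := Pgr) (-(d : ℤ)) (op W) from f).1 x).1) hg
    dsimp only at h0
    refine Eq.trans ?_ (h0.trans ((Twist.coe_smul_val (-(d : ℤ)) x.1 _ _).trans ?_))
    · refine Eq.trans ?_ (PnCoh.twPow_apply (LefPen.X_mem r k b.down) (-(d : ℤ)) (U := LefPen.chart r k b.down)
        (fun x => x.2) ⟨x.1, hb x.2⟩).symm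
      simp
    · congr 1
      refine (PnCoh.twPow_apply (LefPen.X_mem r k a.down) (-(d : ℤ)) (U := LefPen.chart r k a.down)
        (fun x => x.2) ⟨x.1, ha x.2⟩).trans ?_
      simp
  show ((LefPen.dehom G b.down).1 ⟨x.1, hb x.2⟩).val = (g.1 x * (LefPen.dehom G a.down).1 ⟨x.1, ha x.2⟩).val
  rw [HomogeneousLocalization.val_mul, dehom_apply, dehom_apply]
  have h2 := congrArg (fun z => z * (Localization.mk G.1 1 : Twist.Loc Pgr x.1)) h1
  simp only [_root_.mul_assoc, Localization.mk_mul, _root_.one_mul, _root_.mul_one] at h2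
  exact h2

end Groth.Agent.PlaneCurveCoh
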