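import Groth.Agent.S19434
import Groth.Agent.Lib.NegVanClosed
import Groth.Agent.PlaneCurveCoh.Ideal

/-!
Cohomology of the twists of a plane curve.
-/

universe u

set_option autoImplicit false
set_option linter.style.haveILetI false
set_option linter.unusedSectionVars false
set_option linter.overlappingInstances false
set_option backward.isDefEq.respectTransparency false
set_option backward.isDefEq.respectTransparency.types false
set_option maxHeartbeats 1000000

open CategoryTheory CategoryTheory.Limits AlgebraicGeometry TopologicalSpace Opposite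

noncomputable section

namespace Groth.Agent.PlaneCurveCoh

theorem exists_linearEquiv_closed {X P : Scheme.{u}} (ι : X ⟶ P) [IsClosedImmersion ι] (A : Type u) [Field A]
    [P.Over (Spec (CommRingCat.of A))] [X.Over (Spec (CommRingCat.of A))]
    (hι : ι ≫ (P ↘ Spec (CommRingCat.of A)) = X ↘ Spec (CommRingCat.of A))
    {L : P.Modules} (hL : Coh.IsQCoh L) (q : ℕ) :
    Nonempty (Coh.HH X ((Scheme.Modules.pullback ι).obj L) q ≃ₗ[A]
      Coh.HH P (CohB1.tensorMod ((Scheme.Modules.pushforward ι).obj (Coh.structureModule X)) L) q) := by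
  let e : CohB1.tensorMod (Coh.structureModule X) ((Scheme.Modules.pullback ι).obj L) ≅
      (Scheme.Modules.pullback ι).obj L :=
    (H23.PicMul.comm _ ((Scheme.Modules.pullback ι).obj L)).some ≪≫ KFlatLib.tensorUnitIso _
  obtain ⟨el⟩ := PnCoh.exists_linearEquiv_push A ι hι
    (KFlatLib.isQCoh_tensor QCoh.isQCoh_structureModule (QCoh.isQCoh_pullback ι hL) :
      Coh.IsQCoh ((DCoh.tensorBi.obj (Coh.structureModule X)).obj ((Scheme.Modules.pullback ι).obj L))) q
  let w := @asIso _ _ _ _ _ (KFlatLib.isIso_projMod_of_isClosedImmersion ι (Coh.structureModule X) L)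
  exact ⟨((CurveCohLib.hhEquiv (k := A) e.symm q).trans el).trans (CurveCohLib.hhEquiv (k := A) w.symm q)⟩

variable {k : Type u} [Field k] {d : ℕ}

/-- `O(n)` on the curve. -/
def tw (G : LefPen.Form 2 k d) (n : ℤ) : (LefPen.hypIdeal G).subscheme.Modules :=
  (Scheme.Modules.pullback (LefPen.hypIdeal G).subschemeι).obj (Twist.twistProjSpace 2 k n)

theorem isInvertible_tw (G : LefPen.Form 2 k d) (n : ℤ) : PicF.IsInvertible (tw G n) :=
  PicClLib.isInvertible_pullback _ (H28.KPn.inv_tw k 2 n)

theorem tw_zero (G : LefPen.Form 2 k d) :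
    Nonempty (tw G 0 ≅ Coh.structureModule (LefPen.hypIdeal G).subscheme) := by
  obtain ⟨e⟩ := H28.KPn.tw_zero k 2
  obtain ⟨e'⟩ := PicClLib.nonempty_pullback_structureModule (LefPen.hypIdeal G).subschemeι
  exact ⟨(Scheme.Modules.pullback _).mapIso e ≪≫ e'⟩

/-- The dimensions of the cohomology of `O(n)` on a plane curve. -/
theorem finrank_tw (G : LefPen.Form 2 k d) (hG : G ≠ 0) (hd : 1 ≤ d)
    [(LefPen.hypIdeal G).subscheme.Over (Spec (CommRingCat.of k))]
    (hinst : (LefPen.hypIdeal G).subscheme ↘ (Spec (CommRingCat.of k)) =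
      (LefPen.hypIdeal G).subschemeι ≫ CohB1.ProjSpace.toSpec 2 k) (n : ℤ) :
    Module.finrank k (Coh.HH (LefPen.hypIdeal G).subscheme (tw G n) 0) =
        Nat.choose (n + 2).toNat 2 - Nat.choose (n - d + 2).toNat 2 ∧
    Module.finrank k (Coh.HH (LefPen.hypIdeal G).subscheme (tw G n) 1) =
        Nat.choose ((d : ℤ) - 1 - n).toNat 2 - Nat.choose (-1 - n).toNat 2 := by
  obtain ⟨-, ⟨-, h0⟩, -, h1⟩ := S19434.result k 1 d le_rfl hd (LefPen.hypIdeal G) (idealMod_hyp_iso G hG) n
  have hq : ∀ q, Nonempty (Coh.HH (LefPen.hypIdeal G).subscheme (tw G n) q ≃ₗ[k]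
      Coh.HH (CohB1.ProjSpace 2 k) (CohB1.tensorMod (ClSub.quotMod (LefPen.hypIdeal G))
        (Twist.twistProjSpace 2 k n)) q) := fun q =>
    exists_linearEquiv_closed (LefPen.hypIdeal G).subschemeι k hinst.symm
      (ProjUPX.isQCoh_of_isInvertible (H28.KPn.inv_tw k 2 n)) q
  constructor
  · rw [(hq 0).some.finrank_eq]
    refine h0.trans ?_
    norm_num
  · rw [(hq 1).some.finrank_eq]
    refine h1.trans ?_
    congr 2 <;> omega

end Groth.Agent.PlaneCurveCoh
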