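import Groth.Agent.CurveVA.Canonical
import Groth.Agent.Lib.CurveAmple

/-!
A curve with a very ample module of degree at least four with three sections has no pencil of degree two.
-/

universe u

set_option autoImplicit false
set_option linter.style.haveILetI false
set_option linter.unusedSectionVars false
set_option linter.overlappingInstances false
set_option backward.isDefEq.respectTransparency false
set_option backward.isDefEq.respectTransparency.types false
set_option maxHeartbeats 1000000

open CategoryTheory CategoryTheory.Limits AlgebraicGeometry TopologicalSpace Opposite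

noncomputable section

namespace Groth.Agent.PlaneCurveCoh

open Groth.Agent Groth.Agent.H23 Groth.Agent.InvX Groth.Agent.CurvePoint Groth.Agent.CurveVA

attribute [local instance] PicMul.clMonoid

variable (k : Type u) [Field k] [IsAlgClosed k] {X : Scheme.{u}} [X.Over (Spec (CommRingCat.of k))]
  [IsIntegral X] [IsProper (X ↘ Spec (CommRingCat.of k))] [Smooth (X ↘ Spec (CommRingCat.of k))]

/-- An effective module of positive degree has a base point after some twist. -/
theorem exists_base_point' (hdim : topologicalKrullDim X = 1) {T : X.Modules} (hT : PicF.IsInvertible T)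
    (hd : 1 ≤ Curv2.deg k X T 1) (h : Module.finrank k (Coh.HH X T 0) ≠ 0) :
    ∃ (q : X) (hq : IsClosed ({q} : Set X)),
      Module.finrank k (Coh.HH X (CohB1.tensorMod (ptMod q hq) T) 0) ≠ 0 := by
  haveI := CurveCohLib.isNoetherian_of_proper (k := k) (X := X)
  haveI : JacobsonSpace X := LocallyOfFiniteType.jacobsonSpace (X ↘ Spec (CommRingCat.of k))
  let e₀ := Sheaf.H.equiv₀ (Coh.toAb T) isTerminalTop
  obtain ⟨t, ht⟩ : ∃ t : Coh.HH X T 0, t ≠ 0 := by
    by_contra! hc
    haveI : Subsingleton (Coh.HH X T 0) := subsingleton_of_forall_eq 0 hc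
    exact h Module.finrank_zero_of_subsingleton
  let z : Γ(T, ⊤) := e₀ t
  have hz : z ≠ 0 := fun h0 => ht (e₀.injective ((show e₀ t = 0 from h0).trans (map_zero e₀).symm))
  by_contra! hall
  have hloc : TrivBasic.locus z = ⊤ := by
    by_contra hne
    obtain ⟨q, hqz, hqc⟩ := nonempty_inter_closedPoints (Z := ((TrivBasic.locus z : X.Opens) : Set X)ᶜ)
      (Set.nonempty_compl.2 fun h' => hne (Opens.coe_eq_univ.1 h'))
      (TrivBasic.locus z : X.Opens).2.isClosed_compl.isLocallyClosed
    obtain ⟨U, hqU, e, he⟩ := exists_frame hT q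
    obtain ⟨ψ, hψ, hJ⟩ := exists_twist k hdim hT hqc
    obtain ⟨s, hs⟩ := hJ.exists_preimage hT z fun x V f hf hxV => by
      by_cases hxq : x = q
      · subst hxq
        rw [ptJ_self]
        by_contra hn
        exact hqz (mem_locus_of_coord hf hxV hn)
      · rw [ptJ_ne hxq]; trivial
    have hI := InvX.isInvertible_tensorMod (isInvertible_ptMod q hqc k hdim) hT
    haveI := CurveCohLib.finite_HH (k := k) (CurveDeg.isCoh_of_isInvertible hI) 0
    haveI : Subsingleton (Coh.HH X (CohB1.tensorMod (ptMod q hqc) T) 0) :=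
      Module.finrank_zero_iff.1 (hall q hqc)
    refine hz ?_
    have hs0 : s = 0 := by
      let e1 := Sheaf.H.equiv₀ (Coh.toAb (CohB1.tensorMod (ptMod q hqc) T)) isTerminalTop
      exact (e1.apply_symm_apply s).symm.trans ((congrArg e1 (Subsingleton.elim _ 0)).trans (map_zero e1))
    rw [← hs, hs0]
    exact map_zero _
  obtain ⟨φ⟩ := TrivBasic.triv_of_frame (TrivBasic.locus_eq_top_iff.1 hloc)
  rw [CurveRR.deg_congr k φ 1, CurveDeg.deg_structureModule] at hd
  omega

/-- A module of degree two with two sections is the dual of the ideal of two points. -/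
theorem exists_points_of_pencil (hdim : topologicalKrullDim X = 1) {M : X.Modules} (hM : PicF.IsInvertible M)
    (hdM : Curv2.deg k X M 1 = 2) (hsM : 2 ≤ Module.finrank k (Coh.HH X M 0)) :
    ∃ (p q : X) (hpc : IsClosed ({p} : Set X)) (hqc : IsClosed ({q} : Set X)),
      PicF.cl M * (PicF.cl (ptMod p hpc) * PicF.cl (ptMod q hqc)) = 1 := by
  haveI := CurveCohLib.isNoetherian_of_proper (k := k) (X := X)
  obtain ⟨p, -, hpc⟩ : (Set.univ ∩ closedPoints X).Nonempty := by
    haveI : JacobsonSpace X := LocallyOfFiniteType.jacobsonSpace (X ↘ Spec (CommRingCat.of k))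
    exact nonempty_inter_closedPoints ⟨Classical.arbitrary X, trivial⟩ isClosed_univ.isLocallyClosed
  have hT := InvX.isInvertible_tensorMod (isInvertible_ptMod p hpc k hdim) hM
  have hdT := CurveRR.deg_tensor k hdim (isInvertible_ptMod p hpc k hdim) hM
  rw [deg_ptMod p hpc k, hdM] at hdT
  have g1 := h0_twist_ge k hM hpc
  obtain ⟨q, hqc, hq⟩ := exists_base_point k hdim hT hdT (by omega)
  have hU := InvX.isInvertible_tensorMod (isInvertible_ptMod q hqc k hdim) hT
  have hdU : Curv2.deg k X (CohB1.tensorMod (ptMod q hqc) (CohB1.tensorMod (ptMod p hpc) M)) 1 =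
      Curv2.deg k X (Coh.structureModule X) 1 := by
    have h := CurveRR.deg_tensor k hdim (isInvertible_ptMod q hqc k hdim) hT
    rw [deg_ptMod q hqc k] at h
    rw [CurveDeg.deg_structureModule]
    refine h.trans ?_
    rw [show Curv2.deg k X (CohB1.tensorMod (ptMod p hpc) M) 1 = 1 from hdT]
    norm_num
  obtain ⟨s, hs⟩ := CurveRR.exists_hom_ne_zero k (P := CohB1.tensorMod (ptMod q hqc) (CohB1.tensorMod (ptMod p hpc) M)) hq
  haveI := (CurveDeg.deg_le_and_isIso k hdim.le CurveDeg.isInvertible_structureModule hU s hs).2 hdU.symm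
  refine ⟨p, q, hpc, hqc, ?_⟩
  have h1 := PicMul.cl_eq_iff.2 ⟨(asIso s).symm⟩
  rw [PicMul.cl_tensor, PicMul.cl_tensor, ← PicMul.one_def] at h1
  rw [← h1]
  ac_rfl

theorem deg_tmod (hdim : topologicalKrullDim X = 1) {A B : X.Modules} (hA : PicF.IsInvertible A)
    (hB : PicF.IsInvertible B) :
    Curv2.deg k X (CohB1.tensorMod A B) 1 = Curv2.deg k X A 1 + Curv2.deg k X B 1 :=
  CurveRR.deg_tensor k hdim hA hB

theorem tw_obj {X : Scheme.{u}} (A B : X.Modules) : (AmpleVan.tw B).obj A = CohB1.tensorMod A B := rfl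

/-- Tensoring with a module with a section does not lower the number of sections. -/
theorem h0_le_tensor {M T : X.Modules} (hM : PicF.IsInvertible M) (hT : PicF.IsInvertible T)
    (h : Module.finrank k (Coh.HH X T 0) ≠ 0) :
    Module.finrank k (Coh.HH X M 0) ≤ Module.finrank k (Coh.HH X (CohB1.tensorMod T M) 0) := by
  haveI := CurveCohLib.isNoetherian_of_proper (k := k) (X := X)
  obtain ⟨s, hs⟩ := CurveRR.exists_hom_ne_zero k h
  haveI := InvEnd.mono_of_ne_zero CurveDeg.isInvertible_structureModule hT s hs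
  haveI : (AmpleVan.tw M).IsEquivalence := AmpleVan.isEquivalence_tw hM
  have hX₂ := InvX.isInvertible_tensorMod hT hM
  obtain ⟨u⟩ : Nonempty (CohB1.tensorMod (Coh.structureModule X) M ≅ M) := PicMul.cl_eq_iff.1 (by
    rw [PicMul.cl_tensor, ← PicMul.one_def, _root_.one_mul])
  rw [← (CurveCohLib.hhEquiv (k := k) u 0).finrank_eq]
  let f : CohB1.tensorMod (Coh.structureModule X) M ⟶ CohB1.tensorMod T M :=
    eqToHom (tw_obj _ _).symm ≫ (AmpleVan.tw M).map s ≫ eqToHom (tw_obj _ _)
  haveI : Mono f := by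
    haveI : Mono ((AmpleVan.tw M).map s) := (AmpleVan.tw M).map_mono s
    infer_instance
  exact @CurveAmple.finrank_h0_le X k _ _ _ (CohB1.tensorMod (Coh.structureModule X) M) (CohB1.tensorMod T M) f _
    (CurveDeg.isCoh_of_isInvertible hX₂)

/-- Modules of one class have as many sections. -/
theorem h0_congr_cl {A B : X.Modules} (h : PicF.cl A = PicF.cl B) :
    Module.finrank k (Coh.HH X A 0) = Module.finrank k (Coh.HH X B 0) :=
  (CurveCohLib.hhEquiv (k := k) (PicMul.cl_eq_iff.1 h).some 0).finrank_eq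

theorem cl_rearrange {X : Scheme.{u}} {M P Q : X.Modules} (hpq : PicF.cl M * (PicF.cl P * PicF.cl Q) = 1)
    (A B L : X.Modules) :
    PicF.cl (CohB1.tensorMod (CohB1.tensorMod B (CohB1.tensorMod A (CohB1.tensorMod L (CohB1.tensorMod P Q)))) M) =
      PicF.cl (CohB1.tensorMod L (CohB1.tensorMod A B)) := by
  simp only [PicMul.cl_tensor]
  calc _ = (PicF.cl L * (PicF.cl A * PicF.cl B)) * (PicF.cl M * (PicF.cl P * PicF.cl Q)) := by ac_rfl
    _ = _ := by rw [hpq, _root_.mul_one]

/-- No pencil of degree two on a curve with a very ample module of degree at least four with three sections. -/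
theorem no_pencil (hdim : topologicalKrullDim X = 1) {L : X.Modules} (hL : PicF.IsInvertible L)
    (hsep : ∀ (a b : X) (hac : IsClosed ({a} : Set X)) (hbc : IsClosed ({b} : Set X)),
      Module.finrank k (Coh.HH X (CohB1.tensorMod L (CohB1.tensorMod (ptMod a hac) (ptMod b hbc))) 0) + 2 =
        Module.finrank k (Coh.HH X L 0))
    (hh : Module.finrank k (Coh.HH X L 0) = 3) (hd : 4 ≤ Curv2.deg k X L 1)
    (M : X.Modules) (hM : PicF.IsInvertible M) (hdM : Curv2.deg k X M 1 = 2)
    (hsM : 2 ≤ Module.finrank k (Coh.HH X M 0)) : False := by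
  haveI := CurveCohLib.isNoetherian_of_proper (k := k) (X := X)
  obtain ⟨p, q, hpc, hqc, hpq⟩ := exists_points_of_pencil k hdim hM hdM hsM
  have hP := InvX.isInvertible_tensorMod (isInvertible_ptMod p hpc k hdim) (isInvertible_ptMod q hqc k hdim)
  have hT := InvX.isInvertible_tensorMod hL hP
  have h1 := hsep p q hpc hqc
  have hdT : Curv2.deg k X (CohB1.tensorMod L (CohB1.tensorMod (ptMod p hpc) (ptMod q hqc))) 1 =
      Curv2.deg k X L 1 - 2 := by
    rw [deg_tmod k hdim hL hP, deg_tmod k hdim (isInvertible_ptMod p hpc k hdim) (isInvertible_ptMod q hqc k hdim),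
      deg_ptMod p hpc k, deg_ptMod q hqc k]
    ring
  obtain ⟨a, hac, ha⟩ := exists_base_point' k hdim hT (by omega) (by omega)
  have hT₁ := InvX.isInvertible_tensorMod (isInvertible_ptMod a hac k hdim) hT
  have hdT₁ := deg_tmod k hdim (isInvertible_ptMod a hac k hdim) hT
  rw [deg_ptMod a hac k, hdT] at hdT₁
  obtain ⟨b, hbc, hb⟩ := exists_base_point' k hdim hT₁ (by omega) ha
  have hT₂ := InvX.isInvertible_tensorMod (isInvertible_ptMod b hbc k hdim) hT₁
  have h2 := h0_le_tensor k hM hT₂ hb
  rw [h0_congr_cl k (cl_rearrange hpq _ _ _)] at h2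
  have h3 := hsep a b hac hbc
  omega

end Groth.Agent.PlaneCurveCoh
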