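import Groth.Agent.PlaneCurveCoh.Coh
import Groth.Agent.PlaneCurveCoh.NoPencil
import Groth.Agent.CurveCover.Cover
import Groth.Agent.CurveVA.Bar
import Groth.Agent.S10829

/-!
A smooth plane curve of degree at least four has no double cover of the line over the algebraic closure.
-/

universe u

set_option autoImplicit false
set_option linter.style.haveILetI false
set_option linter.unusedSectionVars false
set_option linter.overlappingInstances false
set_option backward.isDefEq.respectTransparency false
set_option backward.isDefEq.respectTransparency.types false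
set_option maxHeartbeats 1000000

open CategoryTheory CategoryTheory.Limits AlgebraicGeometry TopologicalSpace Opposite

noncomputable section

namespace Groth.Agent.PlaneCurveCoh

open Groth.Agent Groth.Agent.H23

variable {k : Type u} [Field k] {d : ℕ}

/-- The hypersurface of a nonzero form in the plane has dimension less than two. -/
theorem dim_lt_two (G : LefPen.Form 2 k d) (hG : G ≠ 0) :
    topologicalKrullDim (LefPen.hypIdeal G).subscheme < 2 := by
  haveI := H23.PnChart.isIntegral_projSpace 2 k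
  let η := genericPoint (CohB1.ProjSpace 2 k)
  have hη : η ∉ (LefPen.hypIdeal G).support := by
    intro hmem
    obtain ⟨i, hi⟩ := Opens.mem_iSup.1 ((LefPenLib.iSup_chart (r := 2) (k := k)).ge (Set.mem_univ η))
    have h := ((LefPen.hypIdeal G).coe_support_inter (LefPenLib.chartAff i)).le ⟨hmem, hi⟩
    refine (Scheme.mem_zeroLocus_iff (CohB1.ProjSpace 2 k) _ _).1 h.1 (LefPen.dehom G i)
      (by rw [LefPenLib.hypIdeal_chart]; exact Ideal.mem_span_singleton_self _) ?_
    refine ((genericPoint_spec (CohB1.ProjSpace 2 k)).mem_open_set_iff (Scheme.basicOpen _ _).2).2 ?_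
    rw [Set.univ_inter, Set.nonempty_iff_ne_empty]
    intro h0
    exact dehom_ne_zero G hG i (eq_zero_of_basicOpen_eq_bot _ (Opens.ext (h0.trans Opens.coe_bot.symm)))
  have h1 := AlgSpLib.CartierDim.topologicalKrullDim_lt (LefPen.hypIdeal G).support.isClosed
    (fun z _ => ⟨η, hη, genericPoint_specializes z⟩)
    (by rw [S10829.result k 2]; exact fun h => ENat.natCast_ne_top 2 (WithBot.coe_eq_top.1 h))
  rw [S10829.result k 2] at h1
  refine lt_of_le_of_lt ?_ h1
  let e : (LefPen.hypIdeal G).subscheme → (((LefPen.hypIdeal G).support : Set (CohB1.ProjSpace 2 k)) : Type u) :=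
    fun x => ⟨(LefPen.hypIdeal G).subschemeι x, ((LefPen.hypIdeal G).range_subschemeι).le ⟨x, rfl⟩⟩
  exact Topology.IsInducing.topologicalKrullDim_le (f := e)
    ((LefPen.hypIdeal G).subschemeι.isClosedEmbedding.isInducing.codRestrict _)

variable (G : LefPen.Form 2 k d) (hG : G ≠ 0) (hd : 4 ≤ d)
  [(LefPen.hypIdeal G).subscheme.Over (Spec (CommRingCat.of k))]
  (hinst : (LefPen.hypIdeal G).subscheme ↘ (Spec (CommRingCat.of k)) =
    (LefPen.hypIdeal G).subschemeι ≫ CohB1.ProjSpace.toSpec 2 k)

set_option quotPrecheck false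
local notation "C" => (LefPen.hypIdeal G).subscheme

include hG hd hinst

theorem finrank_h0 : Module.finrank k (Coh.HH C (Coh.structureModule C) 0) = 1 := by
  obtain ⟨e⟩ := tw_zero G
  obtain ⟨h0, -⟩ := finrank_tw G hG (by omega) hinst 0
  rw [← (CurveCohLib.hhEquiv (k := k) e 0).finrank_eq, h0,
    Nat.choose_eq_zero_of_lt (show ((0 : ℤ) - d + 2).toNat < 2 by omega)]
  rfl

theorem finrank_h1 : Module.finrank k (Coh.HH C (Coh.structureModule C) 1) = Nat.choose (d - 1) 2 := by
  obtain ⟨e⟩ := tw_zero G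
  obtain ⟨-, h1⟩ := finrank_tw G hG (by omega) hinst 0
  rw [← (CurveCohLib.hhEquiv (k := k) e 1).finrank_eq, h1,
    Nat.choose_eq_zero_of_lt (show ((-1 : ℤ) - 0).toNat < 2 by omega), Nat.sub_zero,
    show ((d : ℤ) - 1 - 0).toNat = d - 1 by omega]

theorem isProper : IsProper (C ↘ Spec (CommRingCat.of k)) := by
  haveI := PnCoh.Chow.isProper_toSpec 2 k
  rw [hinst]
  infer_instance

theorem dim_eq_one : topologicalKrullDim C = 1 := by
  haveI := isProper G hG hd hinst
  haveI := CurveCohLib.isNoetherian_of_proper (k := k) (X := C)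
  haveI := CurveBC.connectedSpace_of_h0 k C (finrank_h0 G hG hd hinst)
  refine le_antisymm (Order.le_of_lt_succ ?_) ?_
  · refine lt_of_lt_of_eq (dim_lt_two G hG) ?_
    rfl
  · by_contra h
    haveI : (C).IsSeparated := ⟨by
      rw [← Limits.terminal.comp_from (C ↘ Spec (CommRingCat.of k))]
      infer_instance⟩
    haveI : Subsingleton (Coh.HH C (Coh.structureModule C) 1) := by
      refine Snapper.subsingleton_HH_of_dim_lt (X := C) 1 ⊤ ?_ _ QCoh.isQCoh_structureModule (Set.subset_univ _) 1 le_rfl
      refine lt_of_eq_of_lt ?_ (not_le.1 h)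
      exact (Homeomorph.Set.univ C).isHomeomorph.topologicalKrullDim_eq
    have h1 := finrank_h1 G hG hd hinst
    rw [Module.finrank_zero_of_subsingleton] at h1
    exact (Nat.choose_pos (by omega : 2 ≤ d - 1)).ne h1

theorem deg_tw_one [Smooth (C ↘ Spec (CommRingCat.of k))] : Curv2.deg k C (tw G 1) 1 = d := by
  haveI := isProper G hG hd hinst
  have hdim := dim_eq_one G hG hd hinst
  haveI := CurveBC.isIntegral_of_h0 k C (finrank_h0 G hG hd hinst)
  unfold Curv2.deg
  rw [CurveRR.euler_eq_h0_sub_h1 k hdim.le (ProjUPX.isQCoh_of_isInvertible (isInvertible_tw G 1)),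
    CurveRR.euler_eq_h0_sub_h1 k hdim.le (QCoh.isQCoh_structureModule (X := C))]
  obtain ⟨a0, a1⟩ := finrank_tw G hG (by omega) hinst 1
  rw [finrank_h0 G hG hd hinst, finrank_h1 G hG hd hinst, a0, a1,
    Nat.choose_eq_zero_of_lt (show ((1 : ℤ) - d + 2).toNat < 2 by omega),
    Nat.choose_eq_zero_of_lt (show ((-1 : ℤ) - 1).toNat < 2 by omega),
    show ((d : ℤ) - 1 - 1).toNat = d - 2 by omega,
    show Nat.choose ((1 : ℤ) + 2).toNat 2 = 3 by rfl]
  obtain ⟨m, rfl⟩ : ∃ m, d = m + 2 := ⟨d - 2, by omega⟩
  rw [show m + 2 - 1 = m + 1 by omega, show m + 2 - 2 = m by omega, Nat.choose_succ_succ, Nat.choose_one_right, Nat.sub_zero]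
  push_cast
  omega

attribute [local instance] CurveBC.overBar

/-- No double cover of the line over the algebraic closure. -/
theorem no_double_cover_bar [Smooth (C ↘ Spec (CommRingCat.of k))] (φ : Curv2.bc k C (AlgebraicClosure k) ⟶ CohB1.ProjSpace 1 (AlgebraicClosure k))
    (hφ : φ ≫ CohB1.ProjSpace.toSpec 1 (AlgebraicClosure k) =
      (Curv2.bc k C (AlgebraicClosure k)) ↘ Spec (CommRingCat.of (AlgebraicClosure k)))
    [IsFinite φ] (hr : ∀ y, φ.finrank y = 2) : False := by
  haveI := isProper G hG hd hinst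
  have h0 := finrank_h0 G hG hd hinst
  have hdim := dim_eq_one G hG hd hinst
  haveI := CurveBC.isIntegral_of_h0 k C h0
  haveI := CurveCohLib.isNoetherian_of_proper (k := k) (X := C)
  obtain ⟨hp', hs', hi', hd', -, -⟩ := CurveBC.bar_facts k C hdim h0
  haveI := hp'
  haveI := hs'
  haveI := hi'
  haveI := CurveCohLib.isNoetherian_of_proper (k := AlgebraicClosure k) (X := Curv2.bc k C (AlgebraicClosure k))
  have hpb := CurveBC.isPullback_bar k C
  have hq := ProjUPX.isQCoh_of_isInvertible (isInvertible_tw G 1)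
  have hG' := (CurveVA.gen_of_isClosedImmersion k (LefPen.hypIdeal G).subschemeι hinst.symm
    (Iso.refl (tw G 1))).pullback _ hpb (isInvertible_tw G 1)
  have hL' := PicClLib.isInvertible_pullback (Curv2.bcFst k C (AlgebraicClosure k)) (isInvertible_tw G 1)
  have hh : Module.finrank (AlgebraicClosure k) (Coh.HH (Curv2.bc k C (AlgebraicClosure k))
      ((Scheme.Modules.pullback (Curv2.bcFst k C (AlgebraicClosure k))).obj (tw G 1)) 0) = 3 := by
    rw [CurveBC.finrank_hh k (AlgebraicClosure k) _ hpb _ hq, (finrank_tw G hG (by omega) hinst 1).1,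
      Nat.choose_eq_zero_of_lt (show ((1 : ℤ) - d + 2).toNat < 2 by omega)]
    rfl
  have hdeg : 4 ≤ Curv2.deg (AlgebraicClosure k) (Curv2.bc k C (AlgebraicClosure k))
      ((Scheme.Modules.pullback (Curv2.bcFst k C (AlgebraicClosure k))).obj (tw G 1)) 1 := by
    rw [CurveBC.deg_eq k (AlgebraicClosure k) _ hpb _ hq, deg_tw_one G hG hd hinst]
    omega
  have h0' := CurveBC.finrank_h0 k (AlgebraicClosure k) _ hpb h0
  have hM := PicClLib.isInvertible_pullback φ (CurveCover.isInvertible_twist (AlgebraicClosure k) 1)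
  have hres : φ.residueDegree (genericPoint _) = 2 := by
    rw [← (CurveCover.flat_and_finrank (AlgebraicClosure k) hd' φ hφ).2.2 (φ (genericPoint _))]
    exact hr _
  have hdM := CurveCover.residueDegree_pencil (AlgebraicClosure k) (Curv2.bc k C (AlgebraicClosure k)) hd' h0' φ hφ
  rw [hres] at hdM
  exact no_pencil (AlgebraicClosure k) hd' hL'
    (fun a b hac hbc => hG'.h0_twist (AlgebraicClosure k) hd' hL' hac hbc) hh hdeg _ hM hdM.symm
    (CurveCover.two_le_h0 (AlgebraicClosure k) (Curv2.bc k C (AlgebraicClosure k)) hd' hM (by omega)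
      (CurveCover.exists_mem_locus_pullback (AlgebraicClosure k) (Curv2.bc k C (AlgebraicClosure k)) φ))

end Groth.Agent.PlaneCurveCoh
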