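import Groth.Agent.PlaneCurveCoh.Cover
import Groth.Agent.CurveCover.CurveVeryAmple
import Groth.Agent.S7834
import Groth.Agent.S2501

/-!
A smooth plane curve of degree at least four is not hyperelliptic.
-/

universe u

set_option autoImplicit false
set_option linter.style.haveILetI false
set_option linter.unusedSectionVars false
set_option linter.overlappingInstances false
set_option backward.isDefEq.respectTransparency false
set_option backward.isDefEq.respectTransparency.types false
set_option maxHeartbeats 1000000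

open CategoryTheory CategoryTheory.Limits AlgebraicGeometry TopologicalSpace Opposite

noncomputable section

namespace Groth.Agent.PlaneCurveCoh

open Groth.Agent

attribute [local instance] CurveBC.overBar

variable {k : Type u} [Field k] {d : ℕ}

/-- No double cover of a curve of genus zero. -/
theorem no_double_cover (G : LefPen.Form 2 k d) (hG : G ≠ 0) (hd : 4 ≤ d)
    [(LefPen.hypIdeal G).subscheme.Over (Spec (CommRingCat.of k))]
    (hinst : (LefPen.hypIdeal G).subscheme ↘ (Spec (CommRingCat.of k)) =
      (LefPen.hypIdeal G).subschemeι ≫ CohB1.ProjSpace.toSpec 2 k)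
    [Smooth ((LefPen.hypIdeal G).subscheme ↘ Spec (CommRingCat.of k))]
    {P : Scheme.{u}} [P.Over (Spec (CommRingCat.of k))] [IsProper (P ↘ Spec (CommRingCat.of k))]
    [Smooth (P ↘ Spec (CommRingCat.of k))] (hP : topologicalKrullDim P = 1)
    (hP0 : (Module.finrank k (Coh.HH P (Coh.structureModule P) 0) : ℤ) -
      Module.finrank k (Coh.HH P (Coh.structureModule P) 1) = 1)
    (h : (LefPen.hypIdeal G).subscheme ⟶ P)
    (hh : h ≫ (P ↘ Spec (CommRingCat.of k)) = (LefPen.hypIdeal G).subscheme ↘ Spec (CommRingCat.of k))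
    [IsFinite h] [Flat h] (hr : ∀ y : P, Scheme.Hom.finrank h y = 2) : False := by
  haveI := isProper G hG hd hinst
  obtain ⟨hp', hs', hi', -, -, -⟩ := CurveBC.bar_facts k (LefPen.hypIdeal G).subscheme
    (dim_eq_one G hG hd hinst) (finrank_h0 G hG hd hinst)
  haveI := hp'
  haveI := hs'
  haveI := hi'
  let C' := Curv2.bc k (LefPen.hypIdeal G).subscheme (AlgebraicClosure k)
  let P' := Curv2.bc k P (AlgebraicClosure k)
  have hC := CurveBC.isPullback_bar k (LefPen.hypIdeal G).subscheme
  have hQ := CurveBC.isPullback_bar k P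
  haveI := CurveBC.isProper k (AlgebraicClosure k) _ hQ
  haveI := CurveBC.smooth k (AlgebraicClosure k) _ hQ
  let h' : C' ⟶ P' := hQ.lift (Curv2.bcFst k (LefPen.hypIdeal G).subscheme (AlgebraicClosure k) ≫ h)
    (C' ↘ Spec (CommRingCat.of (AlgebraicClosure k))) (by rw [Category.assoc, hh]; exact hC.w)
  have h1 : h' ≫ Curv2.bcFst k P (AlgebraicClosure k) =
      Curv2.bcFst k (LefPen.hypIdeal G).subscheme (AlgebraicClosure k) ≫ h := hQ.lift_fst _ _ _
  have h2 : h' ≫ (P' ↘ Spec (CommRingCat.of (AlgebraicClosure k))) =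
      C' ↘ Spec (CommRingCat.of (AlgebraicClosure k)) := hQ.lift_snd _ _ _
  have hsq : IsPullback (Curv2.bcFst k (LefPen.hypIdeal G).subscheme (AlgebraicClosure k)) h' h
      (Curv2.bcFst k P (AlgebraicClosure k)) := by
    refine IsPullback.of_bot ?_ h1.symm hQ
    rw [h2, hh]
    exact hC
  haveI : IsFinite h' := MorphismProperty.of_isPullback hsq ‹IsFinite h›
  haveI : Flat h' := MorphismProperty.of_isPullback hsq ‹Flat h›
  have hr' : ∀ y : P', h'.finrank y = 2 := fun y => by
    rw [Scheme.Hom.finrank_of_isPullback _ _ _ _ hsq y]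
    exact hr _
  haveI : LocallyOfFinitePresentation h' := by
    haveI : LocallyOfFinitePresentation (h' ≫ (P' ↘ Spec (CommRingCat.of (AlgebraicClosure k)))) := by
      rw [h2]; infer_instance
    exact AlgSpPts.locallyOfFinitePresentation_of_comp h' (P' ↘ Spec (CommRingCat.of (AlgebraicClosure k)))
  haveI : Surjective h' := (Scheme.Hom.one_le_finrank_iff_surjective h').1 fun y => by
    show (1 : ℕ) ≤ h'.finrank y
    rw [hr' y]; norm_num
  haveI : ConnectedSpace P' := h'.surjective.connectedSpace h'.continuous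
  haveI := QuasiCompact.compactSpace_of_compactSpace (P ↘ Spec (CommRingCat.of k))
  haveI := quasiSeparatedSpace_of_quasiSeparated (P ↘ Spec (CommRingCat.of k))
  have hP0' := CurveCohLib.finrank_h0_eq_one (AlgebraicClosure k) P'
  rw [CurveBC.finrank_hh_unit k (AlgebraicClosure k) _ hQ 0] at hP0'
  have hg : Curv2.genus (AlgebraicClosure k) P' = 0 := by
    rw [CurveBC.genus_eq k (AlgebraicClosure k) _ hQ]
    show Module.finrank k (Coh.HH P (Coh.structureModule P) 1) = 0
    omega
  haveI := S2501.result (P' ↘ Spec (CommRingCat.of (AlgebraicClosure k)))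
  haveI := CurveCover.geometricallyIntegral_of_smooth_connected (P' ↘ Spec (CommRingCat.of (AlgebraicClosure k)))
  obtain ⟨e, he⟩ := S7834.result (AlgebraicClosure k) P'
    (CurveBC.topologicalKrullDim_eq k (AlgebraicClosure k) _ hQ hP) hg
  refine no_double_cover_bar G hG hd hinst (h' ≫ e.hom) (by rw [Category.assoc, he, h2]) fun y => ?_
  have := Scheme.Hom.finrank_of_isPullback (𝟙 _) (h' ≫ e.hom) h' e.inv
    (IsPullback.of_horiz_isIso ⟨by simp⟩) y
  rw [this]
  exact hr' _

end Groth.Agent.PlaneCurveCoh
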